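import Mathlib.RingTheory.Etale.Field
import Mathlib.RingTheory.Unramified.Field
import Mathlib.Dynamics.Newton
import Mathlib.RingTheory.Filtration
import Mathlib.RingTheory.Flat.TorsionFree
import Mathlib.RingTheory.Flat.EquationalCriterion
import Mathlib.RingTheory.DedekindDomain.Ideal.Lemmas


/-!
# Kernels of `X → Z / T` for `X` étale over a Dedekind domain, after base change
-/

set_option autoImplicit false

universe u

open Polynomial TensorProduct

noncomputable section

namespace GrothLib.CohFlatPinch4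

variable {R : Type u} [CommRing R]

theorem isSeparable_quot {k A : Type u} [Field k] [CommRing A] [Algebra k A] [Algebra.EssFiniteType k A]
    [Algebra.FormallyUnramified k A] (x : A) : ∃ g : k[X], g.Separable ∧ aeval x g = 0 := by
  classical
  haveI := Algebra.FormallyUnramified.finite_of_free k A
  haveI : IsArtinianRing A := isArtinian_of_tower k inferInstance
  haveI := Algebra.FormallyUnramified.isReduced_of_field k A
  haveI := Algebra.FormallyEtale.of_formallyUnramified_of_field k A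
  let _ := Fintype.ofFinite (MaximalSpectrum A)
  let μ : MaximalSpectrum A → k[X] := fun m => minpoly k (Ideal.Quotient.mk m.asIdeal x)
  have hμ : ∀ m, (μ m).Monic ∧ Irreducible (μ m) ∧ (μ m).Separable := fun m => by
    haveI : m.asIdeal.IsMaximal := m.isMaximal
    letI := Ideal.Quotient.field m.asIdeal
    have hs : IsSeparable k (Ideal.Quotient.mk m.asIdeal x) := Algebra.IsSeparable.isSeparable k _
    exact ⟨minpoly.monic hs.isIntegral, minpoly.irreducible hs.isIntegral, hs⟩
  refine ⟨∏ p ∈ Finset.univ.image μ, p, ?_, ?_⟩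
  · refine Polynomial.separable_prod' (fun p hp q hq hne => ?_) fun p hp => ?_
    · obtain ⟨m, -, rfl⟩ := Finset.mem_image.1 hp
      obtain ⟨m', -, rfl⟩ := Finset.mem_image.1 hq
      refine (hμ m).2.1.coprime_iff_not_dvd.2 fun h => hne ?_
      exact eq_of_monic_of_associated (hμ m).1 (hμ m').1 ((hμ m).2.1.associated_of_dvd (hμ m').2.1 h)
    · obtain ⟨m, -, rfl⟩ := Finset.mem_image.1 hp
      exact (hμ m).2.2
  · apply (IsArtinianRing.equivPi A).injective
    rw [map_zero]
    funext m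
    show Ideal.Quotient.mk m.asIdeal (aeval x (∏ p ∈ Finset.univ.image μ, p)) = 0
    rw [show Ideal.Quotient.mk m.asIdeal (aeval x (∏ p ∈ Finset.univ.image μ, p)) =
      aeval (Ideal.Quotient.mk m.asIdeal x) (∏ p ∈ Finset.univ.image μ, p) from
      (Polynomial.aeval_algHom_apply (Ideal.Quotient.mkₐ k m.asIdeal) x _).symm, map_prod]
    exact Finset.prod_eq_zero (Finset.mem_image_of_mem μ (Finset.mem_univ m)) (minpoly.aeval _ _)

section root

variable {S : Type u} [CommRing S] [Algebra R S] (P : Ideal R) (G A B : R[X])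

/-- Hensel lifting of simple roots modulo powers of an ideal. -/
theorem exists_root (hab : ∀ i, (A * G + B * derivative G - 1).coeff i ∈ P) (n : ℕ) (s : S)
    (hs : aeval s G ∈ P.map (algebraMap R S)) :
    ∃! r : S ⧸ (P ^ n).map (algebraMap R S),
      IsNilpotent (Ideal.Quotient.mk _ s - r) ∧ aeval r G = 0 := by
  let J := (P ^ n).map (algebraMap R S)
  have hnil : ∀ w ∈ P.map (algebraMap R S), IsNilpotent (Ideal.Quotient.mk J w) := fun w hw =>
    ⟨n, by rw [← map_pow, Ideal.Quotient.eq_zero_iff_mem, show J = (P.map (algebraMap R S)) ^ n from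
      Ideal.map_pow _ _ _]; exact Ideal.pow_mem_pow hw n⟩
  have hev : ∀ q : R[X], aeval (Ideal.Quotient.mk J s) q = Ideal.Quotient.mk J (aeval s q) := fun q =>
    Polynomial.aeval_algHom_apply (Ideal.Quotient.mkₐ R J) s q
  refine existsUnique_nilpotent_sub_and_aeval_eq_zero (by rw [hev]; exact hnil _ hs) ?_
  rw [hev]
  have h1 : aeval s (A * G + B * derivative G - 1) ∈ P.map (algebraMap R S) := by
    rw [aeval_eq_sum_range]
    refine Ideal.sum_mem _ fun i _ => ?_
    rw [Algebra.smul_def]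
    exact Ideal.mul_mem_right _ _ (Ideal.mem_map_of_mem _ (hab i))
  have h2 : aeval s B * aeval s (derivative G) - 1 ∈ P.map (algebraMap R S) := by
    have h3 := sub_mem h1 (Ideal.mul_mem_left _ (aeval s A) hs)
    simp only [map_sub, map_add, map_mul, map_one] at h3
    convert h3 using 1
    ring
  have h4 : IsUnit (Ideal.Quotient.mk J (aeval s B) * Ideal.Quotient.mk J (aeval s (derivative G))) := by
    have := (hnil _ h2).isUnit_add_one
    rwa [map_sub, map_one, sub_add_cancel, map_mul] at this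
  exact isUnit_of_mul_isUnit_right h4

end root

theorem map_eq_smul {S : Type u} [CommRing S] [Algebra R S] (J : Ideal R) {s : S} :
    s ∈ J.map (algebraMap R S) ↔ s ∈ J • (⊤ : Submodule R S) := by
  rw [Ideal.smul_top_eq_map]
  rfl

theorem map_mem_smul {M N : Type u} [AddCommGroup M] [Module R M] [AddCommGroup N] [Module R N] (f : M →ₗ[R] N)
    (J : Ideal R) {m : M} (hm : m ∈ J • (⊤ : Submodule R M)) : f m ∈ J • (⊤ : Submodule R N) := by
  have h := Submodule.mem_map_of_mem (f := f) hm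
  rw [Submodule.map_smul''] at h
  exact Submodule.smul_mono le_rfl le_top h

variable {X T Z : Type u} [CommRing X] [CommRing T] [CommRing Z] [Algebra R X] [Algebra R T] [Algebra R Z]

/-- The cokernel of `ξ`. -/
abbrev Cok (ξ : T →ₐ[R] Z) : Type u := Z ⧸ ξ.toLinearMap.range

/-- The map `X → Z → Z / T`. -/
def Φ (h : X →ₐ[R] Z) (ξ : T →ₐ[R] Z) : X →ₗ[R] Cok ξ := ξ.toLinearMap.range.mkQ ∘ₗ h.toLinearMap

variable [IsDedekindDomain R] [Algebra.Etale R X] [Module.Finite R Z] (h : X →ₐ[R] Z) (ξ : T →ₐ[R] Z)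
  [Module.Projective R (Cok ξ)]
  (hker : ∀ x t, h x = ξ t → ∃ r, algebraMap R X r = x) (ret : Z →ₗ[R] T) (hret : ∀ t, ret (ξ t) = t)

include hker hret

theorem mem_of_mem_smul (P : Ideal R) [P.IsMaximal] (x : X)
    (hx : Φ h ξ x ∈ P • (⊤ : Submodule R (Cok ξ))) :
    Φ h ξ x ∈ P • (Φ h ξ).range := by
  classical
  haveI : Module.Finite R (Cok ξ) := inferInstance
  obtain ⟨N, hN⟩ := Ideal.exists_pow_inf_eq_pow_smul P (Φ h ξ).range
  set PX := P.map (algebraMap R X)
  letI := Ideal.Quotient.field P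
  haveI : Algebra.FormallyUnramified R (X ⧸ PX) := inferInstance
  haveI : Algebra.FormallyUnramified (R ⧸ P) (X ⧸ PX) :=
    Algebra.FormallyUnramified.of_restrictScalars R (R ⧸ P) (X ⧸ PX)
  haveI : Algebra.FiniteType R (X ⧸ PX) := Algebra.FiniteType.trans (S := X) inferInstance inferInstance
  haveI : Algebra.FiniteType (R ⧸ P) (X ⧸ PX) := Algebra.FiniteType.of_restrictScalars_finiteType R _ _
  obtain ⟨g, hsep, hg⟩ := isSeparable_quot (k := R ⧸ P) (Ideal.Quotient.mk PX x)
  obtain ⟨a, b, hab⟩ := hsep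
  have hsurj := Polynomial.map_surjective (Ideal.Quotient.mk P) Ideal.Quotient.mk_surjective
  obtain ⟨G, rfl⟩ := hsurj g
  obtain ⟨A, rfl⟩ := hsurj a
  obtain ⟨B, rfl⟩ := hsurj b
  have hAB : ∀ i, (A * G + B * derivative G - 1).coeff i ∈ P := fun i => by
    rw [← Ideal.Quotient.eq_zero_iff_mem, ← Polynomial.coeff_map, Polynomial.map_sub, Polynomial.map_add,
      Polynomial.map_mul, Polynomial.map_mul, ← Polynomial.derivative_map, hab, Polynomial.map_one, sub_self,
      coeff_zero]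
  have hGx : aeval x G ∈ PX := by
    rw [← Ideal.Quotient.eq_zero_iff_mem, ← hg,
      show Ideal.Quotient.mk (P : Ideal R) = algebraMap R (R ⧸ P) from rfl, aeval_map_algebraMap]
    exact (Polynomial.aeval_algHom_apply (Ideal.Quotient.mkₐ R PX) x G).symm
  obtain ⟨t, ht⟩ : ∃ t, h x - ξ t ∈ P.map (algebraMap R Z) := by
    have hx' : ξ.toLinearMap.range.mkQ (h x) ∈ (P • (⊤ : Submodule R Z)).map ξ.toLinearMap.range.mkQ := by
      rw [Submodule.map_smul'', Submodule.map_top, Submodule.range_mkQ]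
      exact hx
    obtain ⟨z, hz, hz'⟩ := hx'
    obtain ⟨t, ht⟩ := (Submodule.Quotient.eq _).1 hz'.symm
    exact ⟨t, by rw [show ξ t = h x - z from ht, sub_sub_cancel, map_eq_smul]; exact hz⟩
  have hinj : ∀ {J : Ideal R} {w : T}, ξ w ∈ J.map (algebraMap R Z) → w ∈ J.map (algebraMap R T) :=
    fun {J w} hw => by
    rw [map_eq_smul] at hw ⊢
    rw [← hret w]
    exact map_mem_smul ret J hw
  have hmap : ∀ (J : Ideal R) {w : X}, w ∈ J.map (algebraMap R X) → h w ∈ J.map (algebraMap R Z) := fun J w hw => by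
    rw [map_eq_smul] at hw ⊢
    exact map_mem_smul h.toLinearMap J hw
  have hGt : aeval t G ∈ P.map (algebraMap R T) := by
    refine hinj ?_
    rw [← Polynomial.aeval_algHom_apply ξ]
    have h1 : aeval (h x) G - aeval (ξ t) G ∈ P.map (algebraMap R Z) := by
      obtain ⟨d, hd⟩ := Polynomial.sub_dvd_eval_sub (h x) (ξ t) (G.map (algebraMap R Z))
      rw [eval_map_algebraMap, eval_map_algebraMap] at hd
      rw [hd]
      exact Ideal.mul_mem_right _ _ ht
    have h2 : aeval (h x) G ∈ P.map (algebraMap R Z) := by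
      rw [Polynomial.aeval_algHom_apply h]
      exact hmap P hGx
    simpa using sub_mem h2 h1
  let n := N + 1
  obtain ⟨y', ⟨hy1, hy2⟩, -⟩ := exists_root P G A B hAB n x hGx
  obtain ⟨u', ⟨hu1, hu2⟩, -⟩ := exists_root P G A B hAB n t hGt
  obtain ⟨y, rfl⟩ := Ideal.Quotient.mk_surjective y'
  obtain ⟨v, rfl⟩ := Ideal.Quotient.mk_surjective u'
  have hGz : aeval (h x) G ∈ P.map (algebraMap R Z) := by
    rw [Polynomial.aeval_algHom_apply h]
    exact hmap P hGx
  obtain ⟨w, -, huniq⟩ := exists_root P G A B hAB n (h x) hGz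
  let Jn : Ideal R := P ^ n
  let hn : X ⧸ Jn.map (algebraMap R X) →ₐ[R] Z ⧸ Jn.map (algebraMap R Z) :=
    Ideal.quotientMapₐ _ h fun w hw => hmap Jn hw
  let ξn : T ⧸ Jn.map (algebraMap R T) →ₐ[R] Z ⧸ Jn.map (algebraMap R Z) :=
    Ideal.quotientMapₐ _ ξ fun w hw => by
      have hw' := (map_eq_smul Jn).1 hw
      exact (map_eq_smul Jn).2 (map_mem_smul ξ.toLinearMap Jn hw')
  have e1 : hn (Ideal.Quotient.mk _ y) = w := huniq _ ⟨by
    have h3 := hy1.map hn
    rwa [map_sub] at h3, by rw [Polynomial.aeval_algHom_apply hn, hy2, map_zero]⟩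
  have e2 : ξn (Ideal.Quotient.mk _ v) = w := huniq _ ⟨by
    have h3 := hu1.map ξn
    rw [map_sub] at h3
    have h4 : IsNilpotent (Ideal.Quotient.mk (Jn.map (algebraMap R Z)) (h x - ξ t)) := by
      refine ⟨n, ?_⟩
      rw [← map_pow, Ideal.Quotient.eq_zero_iff_mem, Ideal.map_pow]
      exact Ideal.pow_mem_pow ht n
    have h5 := (Commute.all _ _).isNilpotent_add h4 h3
    have h6 : Ideal.Quotient.mk (Jn.map (algebraMap R Z)) (h x) - ξn (Ideal.Quotient.mk _ v) =
        Ideal.Quotient.mk (Jn.map (algebraMap R Z)) (h x - ξ t) +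
          (ξn (Ideal.Quotient.mk _ t) - ξn (Ideal.Quotient.mk _ v)) := by
      rw [map_sub, show ξn (Ideal.Quotient.mk _ t) = Ideal.Quotient.mk _ (ξ t) from rfl, sub_add_sub_cancel]
    exact h6 ▸ h5, by rw [Polynomial.aeval_algHom_apply ξn, hu2, map_zero]⟩
  have e3 : h y - ξ v ∈ Jn.map (algebraMap R Z) := Ideal.Quotient.eq.1 (e1.trans e2.symm)
  have e4 : Φ h ξ y ∈ Jn • (⊤ : Submodule R (Cok ξ)) := by
    have h6 := map_mem_smul ξ.toLinearMap.range.mkQ Jn ((map_eq_smul Jn).1 e3)
    rwa [map_sub, show ξ.toLinearMap.range.mkQ (ξ v) = 0 from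
      (Submodule.Quotient.mk_eq_zero _).2 ⟨v, rfl⟩, sub_zero] at h6
  have e5 : Φ h ξ y ∈ P • (Φ h ξ).range := by
    have h7 : Φ h ξ y ∈ P ^ n • ⊤ ⊓ (Φ h ξ).range := ⟨e4, LinearMap.mem_range_self _ y⟩
    rw [hN n (Nat.le_succ N), show n - N = 1 by omega, pow_one] at h7
    exact Submodule.smul_mono le_rfl inf_le_right h7
  have e6 : y - x ∈ PX := by
    obtain ⟨j, hj⟩ := hy1
    rw [← map_sub, ← map_pow, Ideal.Quotient.eq_zero_iff_mem] at hj
    have hj' : (x - y) ^ j ∈ PX := Ideal.map_mono (Ideal.pow_le_self (Nat.succ_ne_zero N)) hj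
    haveI : IsReduced (X ⧸ PX) := Algebra.FormallyUnramified.isReduced_of_field (R ⧸ P) _
    have h8 : Ideal.Quotient.mk PX (x - y) = 0 := IsReduced.eq_zero _ ⟨j, by
      rw [← map_pow, Ideal.Quotient.eq_zero_iff_mem]; exact hj'⟩
    simpa using neg_mem (Ideal.Quotient.eq_zero_iff_mem.1 h8)
  have e7 : Φ h ξ (y - x) ∈ P • (Φ h ξ).range := by
    have h9 := Submodule.mem_map_of_mem (f := Φ h ξ) ((map_eq_smul P).1 e6)
    rwa [Submodule.map_smul'', Submodule.map_top] at h9
  simpa using sub_mem e5 e7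

/-- Splitting of `X` as `R ⊕ image`. -/
theorem exists_split (hR : Function.Injective (algebraMap R X)) :
    ∃ (r : X →ₗ[R] R) (s : Cok ξ →ₗ[R] X), ∀ x, algebraMap R X (r x) + s (Φ h ξ x) = x := by
  haveI : Module.Finite R (Cok ξ) := inferInstance
  haveI : Module.IsTorsionFree R (Cok ξ) := inferInstance
  let M := (Φ h ξ).range
  haveI : Module.Finite R M := inferInstance
  haveI : Module.IsTorsionFree R M := inferInstance
  haveI : Module.Projective R M := by haveI := Module.finitePresentation_of_finite R M; exact Module.Flat.projective_of_finitePresentation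
  have htf : Submodule.torsion R (Cok ξ ⧸ M) = ⊥ := by
    rw [eq_bot_iff]
    rintro q ⟨⟨a, ha⟩, hq⟩
    obtain ⟨c, rfl⟩ := M.mkQ_surjective q
    have ha0 : a ≠ 0 := nonZeroDivisors.ne_zero ha
    let I : Ideal R := M.comap (LinearMap.toSpanSingleton R (Cok ξ) c)
    have hIa : a ∈ I := (Submodule.Quotient.mk_eq_zero M).1 hq
    rw [Submodule.mem_bot, Submodule.mkQ_apply, Submodule.Quotient.mk_eq_zero]
    by_contra hc
    have hI : I ≠ ⊤ := fun e => hc (by
      have := (Ideal.eq_top_iff_one I).1 e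
      simpa [I] using this)
    obtain ⟨P, hP, hIP⟩ := Ideal.exists_le_maximal I hI
    obtain ⟨J, hJ⟩ := Ideal.dvd_iff_le.2 hIP
    have hP0 : P ≠ ⊥ := fun e => ha0 (by simpa [e] using hIP hIa)
    have hJI : J ≤ I := by
      intro b hb
      show b • c ∈ M
      obtain ⟨Q, π, hπ, hPQ⟩ : ∃ (Q : Ideal R) (π : R), π ≠ 0 ∧ P * Q = Ideal.span {π} := by
        obtain ⟨π, hπ, hπ0⟩ := Submodule.exists_mem_ne_zero_of_ne_bot hP0
        obtain ⟨Q, hQ⟩ := Ideal.dvd_iff_le.2 ((Ideal.span_singleton_le_iff_mem P).2 hπ)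
        exact ⟨Q, π, hπ0, hQ.symm⟩
      have key : ∀ z ∈ P * Q, ∃ m ∈ M, z • (b • c) = π • m := fun z hz => by
        refine Submodule.mul_induction_on hz (fun p hp q hq => ?_) ?_
        · have h1 : p • (b • c) ∈ M := by
            rw [smul_smul]
            exact (show p * b ∈ I by rw [hJ]; exact Ideal.mul_mem_mul hp hb)
          obtain ⟨x, hx⟩ := h1
          have h2 : Φ h ξ x ∈ P • M := mem_of_mem_smul h ξ hker ret hret P x
            (by rw [hx]; exact Submodule.smul_mem_smul hp Submodule.mem_top)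
          have hpq : ∀ p' ∈ P, ∃ d, p' * q = d * π := fun p' hp' =>
            (Ideal.mem_span_singleton'.1 (hPQ ▸ Ideal.mul_mem_mul hp' hq)).imp fun _ e => e.symm
          have h3 : ∀ m ∈ P • M, ∃ m' ∈ M, q • m = π • m' := fun m hm => by
            refine Submodule.smul_induction_on hm (fun p' hp' m₁ hm₁ => ?_) ?_
            · obtain ⟨d, hd⟩ := hpq p' hp'
              exact ⟨d • m₁, M.smul_mem d hm₁, by rw [smul_smul, smul_smul, mul_comm q, hd, mul_comm d]⟩
            · rintro m₁ m₂ ⟨a₁, h₁, e₁⟩ ⟨a₂, h₂, e₂⟩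
              exact ⟨a₁ + a₂, M.add_mem h₁ h₂, by rw [smul_add, smul_add, e₁, e₂]⟩
          obtain ⟨m', hm', e⟩ := h3 _ h2
          exact ⟨m', hm', by rw [mul_comm, mul_smul, ← hx, e]⟩
        · rintro z₁ z₂ ⟨a₁, h₁, e₁⟩ ⟨a₂, h₂, e₂⟩
          exact ⟨a₁ + a₂, M.add_mem h₁ h₂, by rw [add_smul, smul_add, e₁, e₂]⟩
      obtain ⟨m, hm, e⟩ := key π (by rw [hPQ]; exact Ideal.mem_span_singleton_self π)
      rwa [smul_right_injective (Cok ξ) hπ e]
    have hIJ : J = I := le_antisymm hJI (hJ ▸ Ideal.mul_le_right)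
    rw [hIJ] at hJ
    have hI0 : I ≠ 0 := fun e => ha0 (by simpa [e] using hIa)
    refine hP.ne_top ?_
    have := mul_right_cancel₀ hI0 (show P * I = 1 * I by rw [one_mul, ← hJ])
    rw [this, Ideal.one_eq_top]
  haveI : Module.IsTorsionFree R (Cok ξ ⧸ M) := by rwa [Submodule.isTorsionFree_iff_torsion_eq_bot]
  haveI : Module.Projective R (Cok ξ ⧸ M) := by haveI := Module.finitePresentation_of_finite R (Cok ξ ⧸ M); exact Module.Flat.projective_of_finitePresentation
  obtain ⟨ρ, hρ⟩ := Module.projective_lifting_property M.mkQ LinearMap.id M.mkQ_surjective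
  let π' : Cok ξ →ₗ[R] M := (LinearMap.id - ρ ∘ₗ M.mkQ).codRestrict M fun c => by
    rw [← Submodule.Quotient.mk_eq_zero M]
    show M.mkQ (c - ρ (M.mkQ c)) = 0
    rw [map_sub, show M.mkQ (ρ (M.mkQ c)) = M.mkQ c from LinearMap.congr_fun hρ _, sub_self]
  obtain ⟨σ, hσ⟩ := Module.projective_lifting_property (Φ h ξ).rangeRestrict LinearMap.id
    (Φ h ξ).surjective_rangeRestrict
  let L : X →ₗ[R] X := LinearMap.id - σ ∘ₗ π' ∘ₗ Φ h ξ
  have hL : ∀ x, L x ∈ (Algebra.linearMap R X).range := fun x => by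
    have h1 : ∀ m : M, Φ h ξ (σ m) = m := fun m => congrArg Subtype.val (LinearMap.congr_fun hσ m)
    have h2 : Φ h ξ (L x) = 0 := by
      show Φ h ξ (x - σ (π' (Φ h ξ x))) = 0
      rw [map_sub, h1]
      show Φ h ξ x - (Φ h ξ x - ρ (M.mkQ (Φ h ξ x))) = 0
      rw [sub_sub_cancel, show M.mkQ (Φ h ξ x) = 0 from
        (Submodule.Quotient.mk_eq_zero M).2 (LinearMap.mem_range_self _ x), map_zero]
    obtain ⟨t, ht⟩ := (Submodule.Quotient.mk_eq_zero _).1 h2
    exact hker _ t ht.symm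
  let e := LinearEquiv.ofInjective (Algebra.linearMap R X) hR
  refine ⟨e.symm.toLinearMap ∘ₗ L.codRestrict _ hL, σ ∘ₗ π', fun x => ?_⟩
  have h3 : algebraMap R X (e.symm (L.codRestrict _ hL x)) = L x :=
    congrArg Subtype.val (e.apply_symm_apply _)
  show algebraMap R X (e.symm (L.codRestrict _ hL x)) + σ (π' (Φ h ξ x)) = x
  rw [h3]
  exact sub_add_cancel x (σ (π' (Φ h ξ x)))

/-- The equaliser after base change. -/
theorem tensor_eq (hR : Function.Injective (algebraMap R X)) (A : Type u) [CommRing A] [Algebra R A] :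
    Function.Injective (fun a : A => a ⊗ₜ[R] (1 : X)) ∧
    ∀ (z : A ⊗[R] X) (w : A ⊗[R] T), Algebra.TensorProduct.map (AlgHom.id A A) h z =
        Algebra.TensorProduct.map (AlgHom.id A A) ξ w → ∃ a : A, z = a ⊗ₜ 1 ∧ w = a ⊗ₜ 1 := by
  obtain ⟨r, s, hrs⟩ := exists_split h ξ hker ret hret hR
  let rA : A ⊗[R] X → A := fun z => TensorProduct.rid R A (r.lTensor A z)
  have hη : Φ h ξ 1 = 0 := (Submodule.Quotient.mk_eq_zero _).2 ⟨1, by simp⟩
  have hr1 : r 1 = 1 := hR (by
    have := hrs 1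
    rw [hη, map_zero, add_zero] at this
    rw [this, map_one])
  have hid : ∀ z : A ⊗[R] X, rA z ⊗ₜ[R] (1 : X) + (s ∘ₗ Φ h ξ).lTensor A z = z := fun z => by
    induction z with
    | zero => simp [rA]
    | add p q hp hq =>
      simp only [rA, map_add, TensorProduct.add_tmul] at hp hq ⊢
      rw [add_add_add_comm, hp, hq]
    | tmul a x =>
      simp only [rA, LinearMap.lTensor_tmul, TensorProduct.rid_tmul, LinearMap.comp_apply]
      rw [TensorProduct.smul_tmul, ← Algebra.algebraMap_eq_smul_one, ← TensorProduct.tmul_add, hrs]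
  refine ⟨fun a b hab => by simpa [rA, hr1] using congrArg rA hab, fun z w e => ⟨rA z, ?_, ?_⟩⟩
  · have h1 : (s ∘ₗ Φ h ξ).lTensor A z = (s ∘ₗ ξ.toLinearMap.range.mkQ).lTensor A (ξ.toLinearMap.lTensor A w) := by
      rw [show s ∘ₗ Φ h ξ = (s ∘ₗ ξ.toLinearMap.range.mkQ) ∘ₗ h.toLinearMap from rfl, LinearMap.lTensor_comp_apply]
      exact congrArg _ e
    have h2 : (s ∘ₗ Φ h ξ).lTensor A z = 0 := by
      rw [h1, ← LinearMap.lTensor_comp_apply,
        show (s ∘ₗ ξ.toLinearMap.range.mkQ) ∘ₗ ξ.toLinearMap = 0 from LinearMap.ext fun t => by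
          show s (ξ.toLinearMap.range.mkQ (ξ t)) = 0
          rw [show ξ.toLinearMap.range.mkQ (ξ t) = 0 from (Submodule.Quotient.mk_eq_zero _).2 (LinearMap.mem_range_self _ t), map_zero]]
      simp
    have h3 := hid z
    rw [h2, add_zero] at h3
    exact h3.symm
  · have h4 := hid z
    have h5 : ret.lTensor A (ξ.toLinearMap.lTensor A w) = w := by
      rw [← LinearMap.lTensor_comp_apply, show ret ∘ₗ ξ.toLinearMap = LinearMap.id from LinearMap.ext hret,
        LinearMap.lTensor_id_apply]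
    have hz : z = rA z ⊗ₜ 1 := by
      have h1 : (s ∘ₗ Φ h ξ).lTensor A z =
          (s ∘ₗ ξ.toLinearMap.range.mkQ).lTensor A (ξ.toLinearMap.lTensor A w) := by
        rw [show s ∘ₗ Φ h ξ = (s ∘ₗ ξ.toLinearMap.range.mkQ) ∘ₗ h.toLinearMap from rfl, LinearMap.lTensor_comp_apply]
        exact congrArg _ e
      rw [h1, ← LinearMap.lTensor_comp_apply,
        show (s ∘ₗ ξ.toLinearMap.range.mkQ) ∘ₗ ξ.toLinearMap = 0 from LinearMap.ext fun t => by
          show s (ξ.toLinearMap.range.mkQ (ξ t)) = 0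
          rw [show ξ.toLinearMap.range.mkQ (ξ t) = 0 from (Submodule.Quotient.mk_eq_zero _).2 (LinearMap.mem_range_self _ t), map_zero]] at h4
      simpa using h4.symm
    rw [← h5, show ξ.toLinearMap.lTensor A w = h.toLinearMap.lTensor A z from e.symm, hz, LinearMap.lTensor_tmul,
      AlgHom.toLinearMap_apply, map_one, LinearMap.lTensor_tmul]
    congr 1
    · simp [rA, hr1]
    · have := hret 1
      rwa [map_one] at this

end GrothLib.CohFlatPinch4
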