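import Groth.Agent.Lib.CohFlatPinch4.Algebra
import Groth.Agent.Lib.PinchBC29.Basic
import Groth.Prelude.Def_W4c3jacimperfPinch
import Mathlib.AlgebraicGeometry.Morphisms.Affine
import Mathlib.AlgebraicGeometry.Morphisms.Finite
import Mathlib.AlgebraicGeometry.Morphisms.Flat
import Mathlib.AlgebraicGeometry.Pullbacks

/-!
# Global functions on base changes of pinchings
-/

set_option autoImplicit false
set_option maxHeartbeats 1000000

universe u

open CategoryTheory CategoryTheory.Limits AlgebraicGeometry Opposite TensorProduct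

noncomputable section

namespace GrothLib.CohFlatPinch4

/-- Global sections of a pushout of schemes. -/
theorem gamma_pullback {X Y Z P : Scheme.{u}} {i : Z ⟶ X} {j : Z ⟶ Y} {a : X ⟶ P} {b : Y ⟶ P}
    (h : IsPushout i j a b) (x : Γ(X, ⊤)) (y : Γ(Y, ⊤)) (e : i.appTop x = j.appTop y) :
    ∃! u : Γ(P, ⊤), a.appTop u = x ∧ b.appTop u = y := by
  haveI : Scheme.Γ.rightOp.IsLeftAdjoint := ΓSpec.adjunction.isLeftAdjoint
  have h1 : IsPullback a.appTop b.appTop i.appTop j.appTop := ((h.map Scheme.Γ.rightOp).unop).flip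
  have h2 := (Types.isPullback_iff _ _ _ _).1 (h1.map (forget CommRingCat))
  obtain ⟨u, hu⟩ := h2.2.2 x y e
  exact ⟨u, hu, fun v hv => h2.2.1 _ _ ⟨hv.1.trans hu.1.symm, hv.2.trans hu.2.symm⟩⟩

/-- Pushouts of rings as tensor products. -/
theorem exists_tensorEquiv {R W A : Type u} [CommRing R] [CommRing W] [CommRing A] [Algebra R W] [Algebra R A]
    {W' : CommRingCat.{u}} {l : CommRingCat.of W ⟶ W'} {r : CommRingCat.of A ⟶ W'}
    (h : IsPushout (CommRingCat.ofHom (algebraMap R W)) (CommRingCat.ofHom (algebraMap R A)) l r) :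
    ∃ e : A ⊗[R] W ≃+* W', ∀ (a : A) (w : W), e (a ⊗ₜ w) = r.hom a * l.hom w := by
  let i := (CommRingCat.isPushout_tensorProduct R A W).isoIsPushout _ _ h.flip
  refine ⟨i.commRingCatIsoToRingEquiv, fun a w => ?_⟩
  have hl : CommRingCat.ofHom Algebra.TensorProduct.includeLeftRingHom ≫ i.hom = r :=
    (CommRingCat.isPushout_tensorProduct R A W).inl_isoIsPushout_hom _ _ h.flip
  have hr : CommRingCat.ofHom (Algebra.TensorProduct.includeRight (R := R) (A := A) (B := W)).toRingHom ≫ i.hom = l :=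
    (CommRingCat.isPushout_tensorProduct R A W).inr_isoIsPushout_hom _ _ h.flip
  rw [← hl, ← hr]
  show i.hom.hom (a ⊗ₜ w) = i.hom.hom (a ⊗ₜ 1) * i.hom.hom (1 ⊗ₜ w)
  rw [← map_mul, Algebra.TensorProduct.tmul_mul_tmul, mul_one, one_mul]

theorem isoSpec_inv_appTop' (Y : Scheme.{u}) [IsAffine Y] :
    Y.isoSpec.inv.appTop = (Scheme.ΓSpecIso Γ(Y, ⊤)).inv := by
  have h := congrArg Scheme.Hom.appTop Y.isoSpec.hom_inv_id
  rw [Scheme.Hom.comp_appTop, Scheme.isoSpec_hom, Scheme.toSpecΓ_appTop] at h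
  rw [← Iso.comp_hom_eq_id]
  exact h

/-- Base change of global functions of affine schemes. -/
theorem push_affine {W Y : Scheme.{u}} [IsAffine W] [IsAffine Y] (w : W ⟶ Y) {A : Type u} [CommRing A]
    (φ : Γ(Y, ⊤) →+* A) :
    IsPushout w.appTop (CommRingCat.ofHom φ)
      (pullback.fst w (Spec.map (CommRingCat.ofHom φ) ≫ Y.isoSpec.inv)).appTop
      ((Scheme.ΓSpecIso (CommRingCat.of A)).inv ≫
        (pullback.snd w (Spec.map (CommRingCat.ofHom φ) ≫ Y.isoSpec.inv)).appTop) := by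
  have h := isPushout_appTop_of_isPullback (IsPullback.of_hasPullback w (Spec.map (CommRingCat.ofHom φ) ≫ Y.isoSpec.inv))
  refine h.of_iso (Iso.refl _) (Iso.refl _) (Scheme.ΓSpecIso (CommRingCat.of A)) (Iso.refl _) ?_ ?_ ?_ ?_
  · simp
  · rw [Iso.refl_hom, Category.id_comp, Scheme.Hom.comp_appTop, Category.assoc, Scheme.ΓSpecIso_naturality,
      isoSpec_inv_appTop']
    exact Iso.inv_hom_id_assoc _ _
  · simp
  · simp

set_option backward.isDefEq.respectTransparency false in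
theorem main {X Y T Z : Scheme.{u}} [IsAffine Y] (hR : IsDedekindDomain Γ(Y, ⊤))
    (f : X ⟶ Y) (t : T ⟶ Y) (ξ : Z ⟶ T) (ι : Z ⟶ X)
    [IsProper f] [IsFinite t] [IsFinite (ξ ≫ t)] [IsClosedImmersion ι] (hsq : ι ≫ f = ξ ≫ t)
    [IsFinite ξ] [Flat ξ] [Surjective ξ]
    {P : Scheme.{u}} (a : X ⟶ P) (b : T ⟶ P) (hP : IsPushout ι ξ a b)
    (hv : ∀ U : Y.affineOpens, @Pinch.CokerProjective Γ(Y, U) Γ(Z, (ξ ≫ t) ⁻¹ᵁ U) Γ(T, t ⁻¹ᵁ U) _ _ _
      ((ξ ≫ t).app U).hom.toAlgebra (ξ.app (t ⁻¹ᵁ U)).hom)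
    (p : P ⟶ Y) (hap : a ≫ p = f) (hbp : b ≫ p = t)
    (hpO : IsIso p.appTop)
    (het : @Algebra.Etale Γ(Y, ⊤) Γ(X, ⊤) _ _ f.appTop.hom.toAlgebra)
    (A : Type u) [CommRing A] (φ : Γ(Y, ⊤) →+* A)
    (hBC : IsPushout
      ((Over.pullback (Spec.map (CommRingCat.ofHom φ) ≫ Y.isoSpec.inv)).map
        (Over.homMk ι hsq : Over.mk (ξ ≫ t) ⟶ Over.mk f)).left
      ((Over.pullback (Spec.map (CommRingCat.ofHom φ) ≫ Y.isoSpec.inv)).map
        (Over.homMk ξ rfl : Over.mk (ξ ≫ t) ⟶ Over.mk t)).left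
      ((Over.pullback (Spec.map (CommRingCat.ofHom φ) ≫ Y.isoSpec.inv)).map
        (Over.homMk a hap : Over.mk f ⟶ Over.mk p)).left
      ((Over.pullback (Spec.map (CommRingCat.ofHom φ) ≫ Y.isoSpec.inv)).map
        (Over.homMk b hbp : Over.mk t ⟶ Over.mk p)).left)
    (hcf : IsPushout f.appTop (CommRingCat.ofHom φ)
        (pullback.fst f (Spec.map (CommRingCat.ofHom φ) ≫ Y.isoSpec.inv)).appTop
        ((Scheme.ΓSpecIso (CommRingCat.of A)).inv ≫
          (pullback.snd f (Spec.map (CommRingCat.ofHom φ) ≫ Y.isoSpec.inv)).appTop)) :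
    IsPushout p.appTop (CommRingCat.ofHom φ)
      (pullback.fst p (Spec.map (CommRingCat.ofHom φ) ≫ Y.isoSpec.inv)).appTop
      ((Scheme.ΓSpecIso (CommRingCat.of A)).inv ≫
        (pullback.snd p (Spec.map (CommRingCat.ofHom φ) ≫ Y.isoSpec.inv)).appTop) := by
  haveI : IsAffine T := isAffine_of_isAffineHom t
  haveI : IsAffine Z := isAffine_of_isAffineHom (ξ ≫ t)
  letI := f.appTop.hom.toAlgebra
  letI := t.appTop.hom.toAlgebra
  letI := (ξ ≫ t).appTop.hom.toAlgebra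
  letI := φ.toAlgebra
  haveI := hR
  haveI := het
  let hA : Γ(X, ⊤) →ₐ[Γ(Y, ⊤)] Γ(Z, ⊤) := ⟨ι.appTop.hom, fun r => by
    show ι.appTop (f.appTop r) = (ξ ≫ t).appTop r
    rw [← hsq]
    rfl⟩
  let ξA : Γ(T, ⊤) →ₐ[Γ(Y, ⊤)] Γ(Z, ⊤) := ⟨ξ.appTop.hom, fun _ => rfl⟩
  haveI : Module.Finite Γ(Y, ⊤) Γ(Z, ⊤) := by
    have h1 := IsFinite.finite_app (f := ξ ≫ t) ⊤ (isAffineOpen_top Y)
    exact RingHom.finite_algebraMap.1 h1
  haveI : Module.Projective Γ(Y, ⊤) (Cok ξA) := by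
    have h1 : Module.Projective Γ(Y, ⊤) (Γ(Z, ⊤) ⧸ Submodule.span Γ(Y, ⊤) (Set.range ξ.appTop)) :=
      hv ⟨⊤, isAffineOpen_top Y⟩
    have e : Submodule.span Γ(Y, ⊤) (Set.range ξ.appTop) = ξA.toLinearMap.range :=
      (congrArg (Submodule.span Γ(Y, ⊤)) (LinearMap.coe_range (f := ξA.toLinearMap)).symm).trans
        (Submodule.span_eq _)
    rwa [e] at h1
  have hinj : Function.Injective ξA := by
    have h1 := (Flat.flat_and_surjective_iff_faithfullyFlat_of_isAffine ξ).1 ⟨inferInstance, inferInstance⟩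
    letI := ξ.appTop.hom.toAlgebra
    haveI : Module.FaithfullyFlat Γ(T, ⊤) Γ(Z, ⊤) := h1
    exact FaithfulSMul.algebraMap_injective Γ(T, ⊤) Γ(Z, ⊤)
  obtain ⟨sQ, hsQ⟩ := Module.projective_lifting_property ξA.toLinearMap.range.mkQ LinearMap.id
    (Submodule.mkQ_surjective _)
  let eT := LinearEquiv.ofInjective ξA.toLinearMap hinj
  let ret : Γ(Z, ⊤) →ₗ[Γ(Y, ⊤)] Γ(T, ⊤) := eT.symm.toLinearMap ∘ₗ
    (LinearMap.id - sQ ∘ₗ ξA.toLinearMap.range.mkQ).codRestrict _ fun z => by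
      rw [← Submodule.Quotient.mk_eq_zero]
      show ξA.toLinearMap.range.mkQ (z - sQ (ξA.toLinearMap.range.mkQ z)) = 0
      rw [map_sub, show ξA.toLinearMap.range.mkQ (sQ _) = _ from LinearMap.congr_fun hsQ _,
        LinearMap.id_apply, sub_self]
  have hret : ∀ w, ret (ξA w) = w := fun w => by
    apply eT.injective
    show eT (eT.symm _) = eT w
    rw [eT.apply_symm_apply]
    refine Subtype.ext ?_
    show ξA w - sQ (ξA.toLinearMap.range.mkQ (ξA w)) = ξA w
    rw [show ξA.toLinearMap.range.mkQ (ξA w) = 0 from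
      (Submodule.Quotient.mk_eq_zero _).2 (LinearMap.mem_range_self _ w), map_zero, sub_zero]
  have hsurjp : Function.Surjective p.appTop := ((ConcreteCategory.isIso_iff_bijective p.appTop).1 hpO).2
  have hpa : ∀ r, a.appTop (p.appTop r) = f.appTop r := fun r => by rw [← hap]; rfl
  have hpb : ∀ r, b.appTop (p.appTop r) = t.appTop r := fun r => by rw [← hbp]; rfl
  have hker : ∀ x w, hA x = ξA w → ∃ r, algebraMap Γ(Y, ⊤) Γ(X, ⊤) r = x := fun x w e => by
    obtain ⟨u, ⟨hu, -⟩, -⟩ := gamma_pullback hP x w e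
    obtain ⟨r, rfl⟩ := hsurjp u
    exact ⟨r, (hpa r).symm.trans hu⟩
  have hRX : Function.Injective (algebraMap Γ(Y, ⊤) Γ(X, ⊤)) := fun r r' e => by
    have e' : f.appTop r = f.appTop r' := e
    have et : t.appTop r = t.appTop r' := hinj (by
      show ξ.appTop (t.appTop r) = ξ.appTop (t.appTop r')
      have h1 := congrArg ι.appTop e'
      rwa [← ConcreteCategory.comp_apply, ← ConcreteCategory.comp_apply, ← Scheme.Hom.comp_appTop, hsq] at h1)
    refine ((ConcreteCategory.isIso_iff_bijective p.appTop).1 hpO).1 ?_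
    have hc : ι.appTop (f.appTop r) = ξ.appTop (t.appTop r) := by
      rw [← ConcreteCategory.comp_apply, ← Scheme.Hom.comp_appTop, hsq]
      rfl
    exact (gamma_pullback hP (f.appTop r) (t.appTop r) hc).unique ⟨hpa r, hpb r⟩
      ⟨(hpa r').trans e'.symm, (hpb r').trans et.symm⟩
  obtain ⟨hinjA, heq⟩ := tensor_eq hA ξA hker ret hret hRX A
  let g := Spec.map (CommRingCat.ofHom φ) ≫ Y.isoSpec.inv
  let ι' : pullback (ξ ≫ t) g ⟶ pullback f g := ((Over.pullback g).map (Over.homMk ι hsq : Over.mk (ξ ≫ t) ⟶ Over.mk f)).left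
  let ξ' : pullback (ξ ≫ t) g ⟶ pullback t g := ((Over.pullback g).map (Over.homMk ξ rfl : Over.mk (ξ ≫ t) ⟶ Over.mk t)).left
  let a' : pullback f g ⟶ pullback p g := ((Over.pullback g).map (Over.homMk a hap : Over.mk f ⟶ Over.mk p)).left
  let b' : pullback t g ⟶ pullback p g := ((Over.pullback g).map (Over.homMk b hbp : Over.mk t ⟶ Over.mk p)).left
  let inv := (Scheme.ΓSpecIso (CommRingCat.of A)).inv
  obtain ⟨eX, heX⟩ := exists_tensorEquiv (R := Γ(Y, ⊤)) (W := Γ(X, ⊤)) (A := A) hcf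
  obtain ⟨eT', heT⟩ := exists_tensorEquiv (R := Γ(Y, ⊤)) (W := Γ(T, ⊤)) (A := A) (push_affine t φ)
  obtain ⟨eZ, heZ⟩ := exists_tensorEquiv (R := Γ(Y, ⊤)) (W := Γ(Z, ⊤)) (A := A) (push_affine (ξ ≫ t) φ)
  have f1 : ι' ≫ pullback.fst f g = pullback.fst (ξ ≫ t) g ≫ ι := by simp [ι', g]
  have f2 : ι' ≫ pullback.snd f g = pullback.snd (ξ ≫ t) g := by simp [ι', g]
  have g1 : ξ' ≫ pullback.fst t g = pullback.fst (ξ ≫ t) g ≫ ξ := by simp [ξ', g]
  have g2 : ξ' ≫ pullback.snd t g = pullback.snd (ξ ≫ t) g := by simp [ξ', g]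
  have a2 : a' ≫ pullback.snd p g = pullback.snd f g := by simp [a', g]
  have b2 : b' ≫ pullback.snd p g = pullback.snd t g := by simp [b', g]
  have hBC' : IsPushout ι' ξ' a' b' := hBC
  clear_value ι' ξ' a' b'
  have hX : ∀ z, ι'.appTop (eX z) = eZ (Algebra.TensorProduct.map (AlgHom.id A A) hA z) := fun z => by
    induction z with
    | zero =>
      simp only [map_zero]
    | add u v hu hv => rw [map_add, map_add, map_add, map_add, hu, hv]
    | tmul c x =>
      rw [Algebra.TensorProduct.map_tmul, heX, heZ, map_mul]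
      congr 1
      · show ι'.appTop ((pullback.snd f g).appTop (inv c)) = (pullback.snd (ξ ≫ t) g).appTop (inv c)
        rw [← f2]
        rfl
      · show ι'.appTop ((pullback.fst f g).appTop x) = (pullback.fst (ξ ≫ t) g).appTop (ι.appTop x)
        exact congrArg (fun k : _ ⟶ X => k.appTop x) f1
  have hT : ∀ z, ξ'.appTop (eT' z) = eZ (Algebra.TensorProduct.map (AlgHom.id A A) ξA z) := fun z => by
    induction z with
    | zero =>
      simp only [map_zero]
    | add u v hu hv => rw [map_add, map_add, map_add, map_add, hu, hv]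
    | tmul c x =>
      rw [Algebra.TensorProduct.map_tmul, heT, heZ, map_mul]
      congr 1
      · show ξ'.appTop ((pullback.snd t g).appTop (inv c)) = (pullback.snd (ξ ≫ t) g).appTop (inv c)
        rw [← g2]
        rfl
      · show ξ'.appTop ((pullback.fst t g).appTop x) = (pullback.fst (ξ ≫ t) g).appTop (ξ.appTop x)
        exact congrArg (fun k : _ ⟶ T => k.appTop x) g1
  let κ := inv ≫ (pullback.snd p g).appTop
  have ka : ∀ c, a'.appTop (κ c) = eX (c ⊗ₜ 1) := fun c => by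
    rw [heX, map_one, mul_one]
    exact congrArg (fun k : _ ⟶ Spec (CommRingCat.of A) => k.appTop (inv c)) a2
  have kb : ∀ c, b'.appTop (κ c) = eT' (c ⊗ₜ 1) := fun c => by
    rw [heT, map_one, mul_one]
    exact congrArg (fun k : _ ⟶ Spec (CommRingCat.of A) => k.appTop (inv c)) b2
  haveI : IsIso κ := (ConcreteCategory.isIso_iff_bijective κ).2
    ⟨fun c c' e => hinjA (eX.injective (by rw [← ka, ← ka, e])), fun u => by
      obtain ⟨z, hz⟩ := eX.surjective (a'.appTop u)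
      obtain ⟨w, hw⟩ := eT'.surjective (b'.appTop u)
      have hc : ι'.appTop (a'.appTop u) = ξ'.appTop (b'.appTop u) := by
        have hw' : ι' ≫ a' = ξ' ≫ b' := hBC'.w
        rw [← ConcreteCategory.comp_apply, ← ConcreteCategory.comp_apply, ← Scheme.Hom.comp_appTop,
          ← Scheme.Hom.comp_appTop, hw']
      obtain ⟨c, rfl, rfl⟩ := heq z w (eZ.injective ((hX z).symm.trans (((congrArg ι'.appTop hz).trans (hc.trans (congrArg ξ'.appTop hw).symm)).trans (hT w))))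
      refine ⟨c, ?_⟩
      have hu1 : a'.appTop (κ c) = a'.appTop u := (ka c).trans hz
      have hu2 : b'.appTop (κ c) = b'.appTop u := (kb c).trans hw
      exact (gamma_pullback hBC' (a'.appTop u) (b'.appTop u) hc).unique ⟨hu1, hu2⟩ ⟨rfl, rfl⟩⟩
  haveI : IsIso ((Scheme.ΓSpecIso (CommRingCat.of A)).inv ≫
      (pullback.snd p (Spec.map (CommRingCat.ofHom φ) ≫ Y.isoSpec.inv)).appTop) := ‹IsIso κ›
  refine IsPushout.of_horiz_isIso ⟨?_⟩
  have h := congrArg Scheme.Hom.appTop (pullback.condition (f := p) (g := Spec.map (CommRingCat.ofHom φ) ≫ Y.isoSpec.inv))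
  rw [Scheme.Hom.comp_appTop, Scheme.Hom.comp_appTop, Scheme.Hom.comp_appTop] at h
  rw [h, ← Category.assoc (CommRingCat.ofHom φ)]
  congr 1
  rw [isoSpec_inv_appTop', Scheme.ΓSpecIso_inv_naturality]
  rfl

end GrothLib.CohFlatPinch4
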